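import Cfsg.Agent.Lib.Chevalley.InvolCert.F4.Check0

/-! Every node of the certificate of type F4 is correct. -/

set_option autoImplicit false

namespace Cfsg.Agent.Chevalley.InvolCert.F4

theorem table_ok : ∀ i < 220, nodeChk sys reps table i = true := fun i hi =>
  rangeChk_spec range0_ok (by omega) (by omega)

theorem top_st : (table.get 219).st = 187649984473770 := by decide +kernel

end Cfsg.Agent.Chevalley.InvolCert.F4
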