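import Cfsg.Agent.Lib.Chevalley.InvolCert.Chain
import Cfsg.Agent.Lib.Chevalley.Types.F4

/-! The commutator table of type F4 and the products linking the orthogonal sets. -/

set_option autoImplicit false
set_option maxHeartbeats 2000000
set_option maxRecDepth 100000

namespace Cfsg.Agent.Chevalley.InvolCert.F4

open Cfsg.Lie Cfsg.Agent.Chevalley

/-- The table. -/
def sys : Sys where
  D := chevF4
  base := 24
  N := 24
  rk := 4
  nr := 48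
  car := [[0,0,0,-1,-1,-1,-2,-2,-2,2,1,1,1,0,0,0,-1,2,2,2,1,0,0,0],[0,-2,-2,2,0,0,2,2,0,-1,1,-1,-1,1,1,-1,1,0,0,-2,0,2,0,0],[-1,2,1,-1,1,0,0,-1,1,0,-1,1,0,0,-1,1,0,0,-1,1,0,-1,1,0],[2,-1,1,0,-1,1,-1,1,0,0,0,-1,1,-1,1,0,0,-1,1,0,0,0,-1,1]]
  ref := [[0,1,2,7,15,16,17,3,8,9,10,18,19,20,33,4,5,6,11,12,13,21,22,23,24,25,26,34,35,36,41,42,43,14,27,28,29,37,38,39,44,30,31,32,40,45,46,47],[0,1,4,3,2,5,6,8,7,11,12,9,10,14,13,15,21,22,18,19,27,16,17,23,24,30,31,20,28,29,25,26,32,34,33,37,38,35,36,40,39,41,42,45,44,43,46,47],[0,2,1,3,5,4,6,7,9,8,10,11,13,12,14,16,15,17,18,20,19,23,25,21,26,22,24,28,27,29,30,32,31,33,35,34,36,37,39,38,40,41,43,42,44,46,45,47],[1,0,2,3,4,6,5,7,8,10,9,12,11,13,14,15,17,16,19,18,20,22,21,24,23,26,25,27,29,28,31,30,32,33,34,36,35,38,37,39,40,42,41,43,44,45,47,46]]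
  mask := 4074072438336253125020679513606634087667079445000561068198894351423008382329454722849843282
  tbl := [
    [[],[(2,1,1)],[],[],[(5,1,1),(8,1,2)],[],[(7,1,1)],[],[],[],[],[(12,1,1),(19,1,2)],[],[(14,1,1),(21,1,2)],[],[],[],[(18,1,1)],[],[],[],[],[(23,1,1)],[]],
    [[],[],[],[(4,1,1),(6,1,2)],[],[],[],[(8,1,1)],[],[],[(11,1,1),(17,1,2)],[],[],[],[(15,1,1),(23,1,2)],[],[],[],[(19,1,1)],[],[],[(22,1,1)],[],[]],
    [[],[],[],[(5,1,1),(7,1,2)],[],[],[(8,1,1)],[],[],[],[(12,1,1),(18,1,2)],[],[],[(15,1,1),(22,1,2)],[],[],[],[(19,1,1)],[],[],[],[(23,1,1)],[],[]],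
    [[],[],[],[],[],[],[],[],[],[(10,1,1)],[],[(13,1,1)],[(14,1,1)],[],[],[(16,1,1)],[],[],[],[(20,1,1),(21,2,1)],[],[],[],[]],
    [[],[],[],[],[],[],[],[],[],[(11,1,1)],[(13,1,1)],[],[(15,1,1)],[],[(16,1,1)],[],[],[],[(20,1,1),(22,2,1)],[],[],[],[],[]],
    [[],[],[],[],[],[],[],[],[],[(12,1,1)],[(14,1,1)],[(15,1,1)],[],[(16,1,1)],[],[],[],[(20,1,1),(23,2,1)],[],[],[],[],[],[]],
    [[],[],[],[],[],[],[],[],[],[(13,1,1),(17,1,2)],[],[],[(16,1,1),(23,1,2)],[],[],[],[],[],[(21,1,1)],[(22,1,1)],[],[],[],[]],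
    [[],[],[],[],[],[],[],[],[],[(14,1,1),(18,1,2)],[],[(16,1,1),(22,1,2)],[],[],[],[],[],[(21,1,1)],[],[(23,1,1)],[],[],[],[]],
    [[],[],[],[],[],[],[],[],[],[(15,1,1),(19,1,2)],[(16,1,1),(21,1,2)],[],[],[],[],[],[],[(22,1,1)],[(23,1,1)],[],[],[],[],[]],
    [[],[],[],[],[],[],[],[],[],[],[],[],[],[],[],[],[(20,1,1)],[],[],[],[],[],[],[]],
    [[],[],[],[],[],[],[],[],[],[],[],[],[],[],[],[(20,1,1)],[],[],[],[],[],[],[],[]],
    [[],[],[],[],[],[],[],[],[],[],[],[],[],[],[(20,1,1)],[],[],[],[],[],[],[],[],[]],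
    [[],[],[],[],[],[],[],[],[],[],[],[],[],[(20,1,1)],[],[],[],[],[],[],[],[],[],[]],
    [[],[],[],[],[],[],[],[],[],[],[],[],[],[],[],[],[],[],[],[],[],[],[],[]],
    [[],[],[],[],[],[],[],[],[],[],[],[],[],[],[],[],[],[],[],[],[],[],[],[]],
    [[],[],[],[],[],[],[],[],[],[],[],[],[],[],[],[],[],[],[],[],[],[],[],[]],
    [[],[],[],[],[],[],[],[],[],[],[],[],[],[],[],[],[],[],[],[],[],[],[],[]],
    [[],[],[],[],[],[],[],[],[],[],[],[],[],[],[],[],[],[],[],[],[],[],[],[]],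
    [[],[],[],[],[],[],[],[],[],[],[],[],[],[],[],[],[],[],[],[],[],[],[],[]],
    [[],[],[],[],[],[],[],[],[],[],[],[],[],[],[],[],[],[],[],[],[],[],[],[]],
    [[],[],[],[],[],[],[],[],[],[],[],[],[],[],[],[],[],[],[],[],[],[],[],[]],
    [[],[],[],[],[],[],[],[],[],[],[],[],[],[],[],[],[],[],[],[],[],[],[],[]],
    [[],[],[],[],[],[],[],[],[],[],[],[],[],[],[],[],[],[],[],[],[],[],[],[]],
    [[],[],[],[],[],[],[],[],[],[],[],[],[],[],[],[],[],[],[],[],[],[],[],[]]]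

theorem tbl_ok : sys.chkTbl = true := by decide +kernel

/-- The sets of the certificate. -/
def reps : List (List ℕ) := [[23], [20], [23,20], [15,21], [17,23], [6,20,23], [6,17,23], [4,17,23], [14,22,23], [1,6,20,23], [1,6,17,23]]

/-- The class representatives. -/
def classes : List (List ℕ) := [[23], [20], [23,20], [15,21]]

/-- The products linking the sets to the classes. -/
def chains : List (List Step × ℕ) := [
  ([], 0),
  ([], 1),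
  ([], 2),
  ([], 3),
  ([.w [2,3] [19,21], .x 3 [19,20], .w [1] [20,21], .w [2] [20,22], .w [3] [23,20]], 2),
  ([.x 12 [6,16,20], .w [0] [16,17,20], .x 9 [16,17], .w [1,2,3] [15,21]], 3),
  ([.x 5 [6,17,20], .w [3,2,1,2,3] [6,20,23], .x 12 [6,16,20], .w [0] [16,17,20], .x 9 [16,17], .w [1,2,3] [15,21]], 3),
  ([.x 5 [4,17,20], .x 18 [4,17,22], .w [1,0,2,1,2,3] [14,22,23], .x 0 [14,22], .w [2] [15,21]], 3),
  ([.x 0 [14,22], .w [2] [15,21]], 3),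
  ([.x 12 [1,6,16,20], .w [0] [1,16,17,20], .x 9 [1,16,17], .w [0,1,3,2,1,2,3] [4,17,23], .x 5 [4,17,20], .x 18 [4,17,22], .w [1,0,2,1,2,3] [14,22,23], .x 0 [14,22], .w [2] [15,21]], 3),
  ([.x 3 [1,4,17,23], .w [0,1,3,2,1,0,2,1,3] [1,6,20,23], .x 12 [1,6,16,20], .w [0] [1,16,17,20], .x 9 [1,16,17], .w [0,1,3,2,1,2,3] [4,17,23], .x 5 [4,17,20], .x 18 [4,17,22], .w [1,0,2,1,2,3] [14,22,23], .x 0 [14,22], .w [2] [15,21]], 3)]

theorem chains_ok : chainsChk sys reps classes chains = true := by decide +kernel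

end Cfsg.Agent.Chevalley.InvolCert.F4
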