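import Cfsg.Agent.Lib.Chevalley.InvolCert.Rank
import Cfsg.Agent.Lib.Chevalley.InvolCert.F4.Sys

/-! The ranks of the displacements of the class representatives of type F4. -/

set_option autoImplicit false
set_option maxRecDepth 100000
set_option maxHeartbeats 2000000

namespace Cfsg.Agent.Chevalley.InvolCert.F4

theorem rank0_ok : rankChk Data.F4.tab.col 52 [47]
    [([3],[51],51),([3,4],[0,2],2),([5],[28],28),([6],[30],30),([7],[33],33),([8],[35],35),([9],[36],36),([11],[40],40),([12],[42],42),([13],[43],43),([15],[44],44),([19],[46],46),([20],[47],47),([22],[48],48),([25],[49],49),([27],[50],50)]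
    [[],[],[],[0],[0,1],[2],[3],[4],[5],[6],[],[7],[8],[9],[],[10],[],[],[],[11],[12],[],[13],[],[],[14],[],[15],[],[],[],[],[],[],[],[],[],[],[],[],[],[],[],[],[],[],[],[],[],[],[],[]] = true := by decide +kernel

theorem rank1_ok : rankChk Data.F4.tab.col 52 [44]
    [([0],[48],48),([4],[22,45],45),([5],[23,46],46),([6],[24,47],47),([0,7],[1],1),([8],[31,49],49),([9],[32,50],50),([10],[33,51],51),([11],[37],37),([12],[38],38),([13],[39],39),([14],[40],40),([15],[41],41),([16],[42],42),([17],[43],43),([18],[44],44)]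
    [[0],[],[],[],[1],[2],[3],[0,4],[5],[6],[7],[8],[9],[10],[11],[12],[13],[14],[15],[],[],[],[],[],[],[],[],[],[],[],[],[],[],[],[],[],[],[],[],[],[],[],[],[],[],[],[],[],[],[],[],[]] = true := by decide +kernel

theorem rank2_ok : rankChk Data.F4.tab.col 52 [47,44]
    [([0],[48],48),([3],[51],51),([0,3,4],[0,2,22,45],45),([19],[46],46),([20],[47],47),([3,10],[33],33),([25],[49],49),([27],[50],50),([0,3,7,10],[1],1),([14],[40],40),([16],[42],42),([17],[43],43),([11,14],[37],37),([18],[44],44),([12,16],[38],38),([13,17],[39],39),([15,18],[41],41),([5,19],[23,28],28),([6,20],[24,30],30),([8,25],[31,35],35),([9,27],[32,36],36)]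
    [[0],[],[],[1],[0,1,2],[3,17],[4,18],[0,5,8],[6,19],[7,20],[1,5],[9,12],[10,14],[11,15],[9],[13,16],[10],[11],[13],[3],[4],[],[0],[],[],[6],[],[7],[],[],[],[],[],[],[],[],[],[],[],[],[],[],[],[],[],[],[],[],[],[],[],[]] = true := by decide +kernel

theorem rank3_ok : rankChk Data.F4.tab.col 52 [39,45]
    [([1],[43],43),([1,2],[49],49),([13,25],[50],50),([14,26],[51],51),([2,6,12],[3],3),([17],[44],44),([8],[18,36],36),([9],[34],34),([10],[35],35),([24],[48],48),([1,12],[0],0),([13],[41],41),([14],[42],42),([15],[32],32),([16],[33],33),([7,17],[17,31],31),([19],[37,47],47),([20],[45],45),([21],[46],46),([22],[39],39),([23],[40],40),([11,24],[24,38],38),([4,25],[13,25,29],29),([5,26],[14,26,30],30)]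
    [[],[0],[0,1],[],[2,11,22],[3,12,23],[1,4,10],[5,15],[6],[7],[8],[9,21],[0,10],[11],[12],[13],[14],[5],[],[16],[17],[18],[19],[20],[9],[2,11],[3,12],[],[],[2],[3],[5],[],[],[],[],[],[],[9],[],[],[],[],[],[],[],[],[],[],[],[],[]] = true := by decide +kernel

end Cfsg.Agent.Chevalley.InvolCert.F4
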