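import Cfsg.Agent.Lib.Chevalley.InvolCert.Final
import Cfsg.Agent.Lib.Chevalley.InvolCert.F4.All
import Cfsg.Agent.Lib.Chevalley.InvolCert.F4.Ranks
import Cfsg.Agent.Lib.Chevalley.Types.OrderF4

/-! The classes of involutions of type F4 in characteristic two. -/

set_option autoImplicit false
set_option maxRecDepth 100000

namespace Cfsg.Agent.Chevalley.InvolCert.F4

open Cfsg.Lie Cfsg.Agent.Chevalley Cfsg.Agent.Chevalley.Group

variable {K : Type*} [Field K] [CharP K 2]

theorem classes_eq : classes = [[23], [20], [23,20], [15,21]] := by decide +kernel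

/-- The representatives, in the group. -/
noncomputable abbrev y (S : List ℕ) : GL chevF4.Idx K := rep sys Types.F4.certified S

theorem sq0 : same sys (oneW [23] ++ oneW [23]) [] = true := by decide +kernel

theorem rank0 : (disp (y (K := K) [23])).rank = 16 :=
  rank_rep sys Types.F4.certified tbl_ok (n := 52) (S := [23]) rank0_ok (by decide +kernel)

theorem mem0 : y (K := K) [23] ∈ chevF4.group K ∧ orderOf (y (K := K) [23]) = 2 :=
  ⟨rep_mem sys Types.F4.certified tbl_ok (by decide),
    order_two sys Types.F4.certified tbl_ok sq0 rank0 (by norm_num)⟩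

theorem coe0 : ((y (K := K) [23] : GL chevF4.Idx K) : Matrix chevF4.Idx chevF4.Idx K) =
    chevF4.x K 47 1 := by
  rw [y, rep_eq sys Types.F4.certified tbl_ok]
  show (((xg Types.F4.certified 47 (1 : K) * 1) : GL chevF4.Idx K) : Matrix chevF4.Idx chevF4.Idx K) = _
  simp [mul_assoc]

theorem sq1 : same sys (oneW [20] ++ oneW [20]) [] = true := by decide +kernel

theorem rank1 : (disp (y (K := K) [20])).rank = 16 :=
  rank_rep sys Types.F4.certified tbl_ok (n := 52) (S := [20]) rank1_ok (by decide +kernel)

theorem mem1 : y (K := K) [20] ∈ chevF4.group K ∧ orderOf (y (K := K) [20]) = 2 :=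
  ⟨rep_mem sys Types.F4.certified tbl_ok (by decide),
    order_two sys Types.F4.certified tbl_ok sq1 rank1 (by norm_num)⟩

theorem coe1 : ((y (K := K) [20] : GL chevF4.Idx K) : Matrix chevF4.Idx chevF4.Idx K) =
    chevF4.x K 44 1 := by
  rw [y, rep_eq sys Types.F4.certified tbl_ok]
  show (((xg Types.F4.certified 44 (1 : K) * 1) : GL chevF4.Idx K) : Matrix chevF4.Idx chevF4.Idx K) = _
  simp [mul_assoc]

theorem sq2 : same sys (oneW [23,20] ++ oneW [23,20]) [] = true := by decide +kernel

theorem rank2 : (disp (y (K := K) [23,20])).rank = 21 :=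
  rank_rep sys Types.F4.certified tbl_ok (n := 52) (S := [23,20]) rank2_ok (by decide +kernel)

theorem mem2 : y (K := K) [23,20] ∈ chevF4.group K ∧ orderOf (y (K := K) [23,20]) = 2 :=
  ⟨rep_mem sys Types.F4.certified tbl_ok (by decide),
    order_two sys Types.F4.certified tbl_ok sq2 rank2 (by norm_num)⟩

theorem coe2 : ((y (K := K) [23,20] : GL chevF4.Idx K) : Matrix chevF4.Idx chevF4.Idx K) =
    chevF4.x K 47 1 * chevF4.x K 44 1 := by
  rw [y, rep_eq sys Types.F4.certified tbl_ok]
  show (((xg Types.F4.certified 47 (1 : K) * (xg Types.F4.certified 44 (1 : K) * 1)) : GL chevF4.Idx K) : Matrix chevF4.Idx chevF4.Idx K) = _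
  simp [mul_assoc]

theorem sq3 : same sys (oneW [15,21] ++ oneW [15,21]) [] = true := by decide +kernel

theorem rank3 : (disp (y (K := K) [15,21])).rank = 24 :=
  rank_rep sys Types.F4.certified tbl_ok (n := 52) (S := [15,21]) rank3_ok (by decide +kernel)

theorem mem3 : y (K := K) [15,21] ∈ chevF4.group K ∧ orderOf (y (K := K) [15,21]) = 2 :=
  ⟨rep_mem sys Types.F4.certified tbl_ok (by decide),
    order_two sys Types.F4.certified tbl_ok sq3 rank3 (by norm_num)⟩

theorem coe3 : ((y (K := K) [15,21] : GL chevF4.Idx K) : Matrix chevF4.Idx chevF4.Idx K) =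
    chevF4.x K 39 1 * chevF4.x K 45 1 := by
  rw [y, rep_eq sys Types.F4.certified tbl_ok]
  show (((xg Types.F4.certified 39 (1 : K) * (xg Types.F4.certified 45 (1 : K) * 1)) : GL chevF4.Idx K) : Matrix chevF4.Idx chevF4.Idx K) = _
  simp [mul_assoc]

theorem top_free : ∀ i < sys.N, fl 187649984473770 i = 2 := by decide +kernel

theorem classify [Fintype K] {g : GL chevF4.Idx K} (hg : g ∈ chevF4.group K) (h2 : orderOf g = 2) :
    ∃ S ∈ classes, Cj sys g (y (K := K) S) :=
  exists_rep sys Types.F4.certified tbl_ok table_ok top_st (by norm_num) top_free chains_ok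
    (exists_conj_U sys Types.F4.certified tbl_ok (Types.OrderF4.card_group K) (by decide)) hg h2

end Cfsg.Agent.Chevalley.InvolCert.F4
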