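import Cfsg.Agent.Lib.Chevalley.InvolCert.F4.Data0
import Cfsg.Agent.Lib.Chevalley.InvolCert.F4.Sys

/-! The certificate of type F4. -/

set_option autoImplicit false
set_option maxRecDepth 100000

namespace Cfsg.Agent.Chevalley.InvolCert.F4

/-- The nodes. -/
def table : NTable := [
  c0, c1, c2, c3]

end Cfsg.Agent.Chevalley.InvolCert.F4
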